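import Groth.Agent.DCohMore.RHomInjBdd
import Groth.Agent.DCohLib.DualEval
import Mathlib.Algebra.Homology.BifunctorHomotopy
import Mathlib.Algebra.Homology.DerivedCategory.SingleTriangle

/-!
# Cohomology of internal Hom complexes out of shifts and of short exact sequences
-/

set_option autoImplicit false
set_option linter.style.haveILetI false
set_option linter.unusedSectionVars false
set_option backward.isDefEq.respectTransparency false
set_option maxHeartbeats 1000000

universe u

open CategoryTheory CategoryTheory.Limits AlgebraicGeometry CategoryTheory.Pretriangulated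
open Groth.Agent.DCohLib

attribute [local instance] HasDerivedCategory.standard

noncomputable section

namespace Groth.Agent.AVExtLib

variable {X : Scheme.{u}}

/-- The internal Hom out of a contractible complex is acyclic. -/
theorem isZero_homology_hCx_of_contractible (C J : CochainComplex X.Modules ℤ) (h : Homotopy (𝟙 C) 0) (j : ℤ) :
    IsZero (((hCx C).obj J).homology j) := by
  let T := (hCx C).obj J
  let ε := (hAdj C).counit.app J
  have h1 : Homotopy ε 0 := by
    refine ((Homotopy.ofEq ?_).trans (((HomologicalComplex.mapBifunctorMapHomotopy₂ (𝟙 T) h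
      (DCoh.tensorBi (X := X)) (ComplexShape.up ℤ)).compRight ε))).trans (Homotopy.ofEq ?_)
    · exact (Category.id_comp ε).symm.trans
        (congrArg (· ≫ ε) ((DCoh.tensorCx.obj T).map_id C).symm)
    · exact (congrArg (· ≫ ε) (tenL_map_zero (K := C) (K' := C) T)).trans zero_comp
  obtain ⟨h2⟩ : Nonempty (Homotopy (𝟙 T) 0) := ((htpCompat C).null_iff (𝟙 T)).2 ⟨by
    rw [Adjunction.homEquiv_counit, CategoryTheory.Functor.map_id, Category.id_comp]
    exact h1⟩
  rw [IsZero.iff_id_eq_zero, ← HomologicalComplex.homologyMap_id, h2.homologyMap_eq,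
    HomologicalComplex.homologyMap_zero]

/-- The internal Hom out of a shift. -/
theorem nonempty_homology_hCx_shift (K J : CochainComplex X.Modules ℤ) (j : ℤ) :
    Nonempty (((hCx K).obj J).homology j ≅ ((hCx (K⟦(1 : ℤ)⟧)).obj J).homology (j + 1)) := by
  let S := CochainComplex.mappingCone.triangleRotateShortComplex (𝟙 K)
  have hS := shortExact_hSeq (S := S) (CochainComplex.mappingCone.triangleRotateShortComplexSplitting (𝟙 K)) J
  have hmid : ∀ i, IsZero (((hCx (CochainComplex.mappingCone (𝟙 K))).obj J).homology i) :=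
    isZero_homology_hCx_of_contractible _ J (CochainComplex.mappingCone.homotopyToZeroOfId K)
  haveI hδ : IsIso (hS.δ j (j + 1) rfl) := hS.isIso_δ j (j + 1) rfl (hmid j) (hmid (j + 1))
  exact ⟨@asIso _ _ _ _ _ hδ⟩

/-- The derived internal Hom out of the unit. -/
theorem nonempty_rSheafHom_unit [DCoh.HasLTensorCx (unitCx X)] [DCoh.HasRSheafHom (unitCx X)] :
    Nonempty (DCoh.RSheafHom (unitCx X) ≅ 𝟭 (DCoh.D X)) :=
  ⟨((DCoh.RSheafHomAdj (unitCx X)).ofNatIsoLeft lTensorUnitIso).rightAdjointUniq Adjunction.id⟩

variable (S : ShortComplex X.Modules) (hS : S.ShortExact)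

/-- The resolution of the first map of a short exact sequence. -/
abbrev resF : (resX X).obj ((HomologicalComplex.single X.Modules (ComplexShape.up ℤ) 0).obj S.X₁) ⟶
    (resX X).obj ((HomologicalComplex.single X.Modules (ComplexShape.up ℤ) 0).obj S.X₂) :=
  (resX X).map ((HomologicalComplex.single X.Modules (ComplexShape.up ℤ) 0).map S.f)

include hS in
/-- The cone of the resolved map represents the quotient. -/
theorem nonempty_toD_cone : Nonempty (DCoh.toD X (CochainComplex.mappingCone (resF S)) ≅ DCoh.inD X S.X₃) := by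
  let e : ∀ M : X.Modules, DerivedCategory.Q.obj ((resX X).obj
      ((HomologicalComplex.single X.Modules (ComplexShape.up ℤ) 0).obj M)) ≅
        (DerivedCategory.singleFunctor X.Modules 0).obj M := fun M =>
    @asIso _ _ _ _ _ (isIso_Q_resXπ ((HomologicalComplex.single X.Modules (ComplexShape.up ℤ) 0).obj M)) ≪≫
      ((DerivedCategory.singleFunctorIsoCompQ X.Modules 0).app M).symm
  have w : DerivedCategory.Q.map (resF S) ≫ (e S.X₂).hom =
      (e S.X₁).hom ≫ (DerivedCategory.singleFunctor X.Modules 0).map S.f := by
    simp only [e, Iso.trans_hom, asIso_hom, Iso.symm_hom, Iso.app_inv, Category.assoc]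
    rw [← Category.assoc, ← Functor.map_comp, (resXπ X).naturality, Functor.map_comp, Category.assoc]
    exact congrArg (_ ≫ ·) ((DerivedCategory.singleFunctorIsoCompQ X.Modules 0).inv.naturality S.f)
  exact ⟨Triangle.π₃.mapIso (isoTriangleOfIso₁₂ _ hS.singleTriangle
    (DerivedCategory.mappingCone_triangle_distinguished (resF S)) hS.singleTriangle_distinguished
    (e S.X₁) (e S.X₂) w)⟩

/-- The long exact sequence of derived internal Homs out of a short exact sequence, in terms of complexes. -/
abbrev dualSeq (J : CochainComplex X.Modules ℤ) : ShortComplex (CochainComplex X.Modules ℤ) :=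
  hSeq (CochainComplex.mappingCone.triangleRotateShortComplex (resF S)) J

theorem shortExact_dualSeq (J : CochainComplex X.Modules ℤ) : (dualSeq S J).ShortExact :=
  shortExact_hSeq (S := CochainComplex.mappingCone.triangleRotateShortComplex (resF S))
    (CochainComplex.mappingCone.triangleRotateShortComplexSplitting (resF S)) J

/-- The first term, one degree up, computes the derived internal Hom out of the first module. -/
theorem nonempty_dualSeq_X₁ [IsLocallyNoetherian X] (J : CochainComplex X.Modules ℤ) [J.IsKInjective]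
    [DCoh.HasLTensorCx ((HomologicalComplex.single X.Modules (ComplexShape.up ℤ) 0).obj S.X₁)]
    [DCoh.HasRSheafHom ((HomologicalComplex.single X.Modules (ComplexShape.up ℤ) 0).obj S.X₁)]
    {L : DCoh.D X} (eJ : DerivedCategory.Q.obj J ≅ L) (j : ℤ) :
    Nonempty ((dualSeq S J).X₁.homology (j + 1) ≅ DCoh.HD
      ((DCoh.RSheafHom ((HomologicalComplex.single X.Modules (ComplexShape.up ℤ) 0).obj S.X₁)).obj L) j) := by
  obtain ⟨a⟩ := nonempty_homology_hCx_shift
    ((resX X).obj ((HomologicalComplex.single X.Modules (ComplexShape.up ℤ) 0).obj S.X₁)) J j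
  obtain ⟨b⟩ := DCohMore.nonempty_homology_rSheafHom
    ((HomologicalComplex.single X.Modules (ComplexShape.up ℤ) 0).obj S.X₁) J eJ j
  exact ⟨a.symm ≪≫ b⟩

/-- The last term computes the derived internal Hom out of the middle module. -/
theorem nonempty_dualSeq_X₃ [IsLocallyNoetherian X] (J : CochainComplex X.Modules ℤ) [J.IsKInjective]
    [DCoh.HasLTensorCx ((HomologicalComplex.single X.Modules (ComplexShape.up ℤ) 0).obj S.X₂)]
    [DCoh.HasRSheafHom ((HomologicalComplex.single X.Modules (ComplexShape.up ℤ) 0).obj S.X₂)]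
    {L : DCoh.D X} (eJ : DerivedCategory.Q.obj J ≅ L) (j : ℤ) :
    Nonempty ((dualSeq S J).X₃.homology j ≅ DCoh.HD
      ((DCoh.RSheafHom ((HomologicalComplex.single X.Modules (ComplexShape.up ℤ) 0).obj S.X₂)).obj L) j) :=
  DCohMore.nonempty_homology_rSheafHom ((HomologicalComplex.single X.Modules (ComplexShape.up ℤ) 0).obj S.X₂) J eJ j

/-- The middle term computes the derived internal Hom out of the cone. -/
theorem nonempty_dualSeq_X₂ (J : CochainComplex X.Modules ℤ) [J.IsKInjective]
    [DCoh.HasLTensorCx (CochainComplex.mappingCone (resF S))] [DCoh.HasRSheafHom (CochainComplex.mappingCone (resF S))]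
    {L : DCoh.D X} (eJ : DerivedCategory.Q.obj J ≅ L) (j : ℤ) :
    Nonempty ((dualSeq S J).X₂.homology j ≅ DCoh.HD
      ((DCoh.RSheafHom (CochainComplex.mappingCone (resF S))).obj L) j) := by
  obtain ⟨e⟩ := nonempty_rSheafHom_hCx (CochainComplex.mappingCone (resF S))
    (isKFlat_cone _ (isKFlat_resX _) (isKFlat_resX _)) J
  exact ⟨((DerivedCategory.homologyFunctorFactors X.Modules j).app _).symm ≪≫
    (DerivedCategory.homologyFunctor X.Modules j).mapIso (e ≪≫ (DCoh.RSheafHom _).mapIso eJ)⟩

end Groth.Agent.AVExtLib
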