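import Groth.Agent.AVExtLib.Rational
import Groth.Agent.S1535
import Groth.Agent.S5335
import Groth.Agent.ASp.PropDescend

/-!
# Rational maps from smooth varieties to proper group schemes extend
-/

set_option autoImplicit false
set_option backward.isDefEq.respectTransparency false
set_option backward.isDefEq.respectTransparency.types false
set_option linter.style.haveILetI false
set_option linter.unusedSectionVars false
set_option maxHeartbeats 1000000

universe u

open CategoryTheory CategoryTheory.Limits AlgebraicGeometry TopologicalSpace MonoidalCategory CartesianMonoidalCategory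
open MonObj

noncomputable section

namespace Groth.Agent.AVExtLib

/-- A morphism from the spectrum of a local ring goes through the local ring of any point to which the image specializes. -/
theorem exists_specMap_fromSpecStalk {X : Scheme.{u}} {R : CommRingCat.{u}} [IsLocalRing R] (m : Spec R ⟶ X) {e : X}
    (he : m (IsLocalRing.closedPoint R) ⤳ e) :
    ∃ ψ : X.presheaf.stalk e ⟶ R, Spec.map ψ ≫ X.fromSpecStalk e = m :=
  ⟨X.presheaf.stalkSpecializes he ≫ Scheme.stalkClosedPointTo m, by
    rw [Spec.map_comp, Category.assoc, Scheme.SpecMap_stalkSpecializes_fromSpecStalk,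
      Scheme.Spec_stalkClosedPointTo_fromSpecStalk]⟩

theorem fromSpecStalkOfMem_closedPoint {X : Scheme.{u}} (W : X.Opens) (x : X) (hx : x ∈ W) :
    W.fromSpecStalkOfMem x hx (IsLocalRing.closedPoint (X.presheaf.stalk x)) = ⟨x, hx⟩ := by
  refine W.ι.isOpenEmbedding.injective ?_
  rw [← Scheme.Hom.comp_apply, Scheme.Opens.fromSpecStalkOfMem_ι, Scheme.fromSpecStalk_closedPoint]
  rfl

theorem fromSpecStalkOfMem_homOfLE {X : Scheme.{u}} {V W : X.Opens} (h : V ≤ W) (x : X) (hx : x ∈ V) :
    V.fromSpecStalkOfMem x hx ≫ X.homOfLE h = W.fromSpecStalkOfMem x (h hx) := by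
  rw [← cancel_mono W.ι, Category.assoc, X.homOfLE_ι, Scheme.Opens.fromSpecStalkOfMem_ι,
    Scheme.Opens.fromSpecStalkOfMem_ι]

theorem stalkSpecializes_fromSpecStalkOfMem {X : Scheme.{u}} (W : X.Opens) {x y : X} (h : y ⤳ x) (hx : x ∈ W) :
    Spec.map (X.presheaf.stalkSpecializes h) ≫ W.fromSpecStalkOfMem x hx =
      W.fromSpecStalkOfMem y (h.mem_open W.2 hx) := by
  rw [← cancel_mono W.ι, Category.assoc, Scheme.Opens.fromSpecStalkOfMem_ι, Scheme.Opens.fromSpecStalkOfMem_ι,
    Scheme.SpecMap_stalkSpecializes_fromSpecStalk]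

theorem isDominant_fromSpecStalkOfMem {X : Scheme.{u}} [IrreducibleSpace X] (W : X.Opens) (h : genericPoint X ∈ W) :
    IsDominant (W.fromSpecStalkOfMem (genericPoint X) h) := ⟨fun z => by
  have h' : W.fromSpecStalkOfMem _ h (IsLocalRing.closedPoint (X.presheaf.stalk (genericPoint X))) ⤳ z := by
    refine W.ι.isOpenEmbedding.isInducing.specializes_iff.mp ?_
    rw [fromSpecStalkOfMem_closedPoint]
    exact genericPoint_specializes _
  exact closure_mono (Set.singleton_subset_iff.mpr (Set.mem_range_self _)) h'.mem_closure⟩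

theorem isDominant_stalkSpecializes {X : Scheme.{u}} [IsIntegral X] (x : X) :
    IsDominant (Spec.map (X.presheaf.stalkSpecializes (genericPoint_specializes x))) := ⟨by
  have h : Function.Injective (X.presheaf.stalkSpecializes (genericPoint_specializes x)).hom :=
    IsFractionRing.injective (X.presheaf.stalk x) X.functionField
  exact PrimeSpectrum.denseRange_comap_iff_ker_le_nilRadical _ |>.2 (by
    rw [(RingHom.injective_iff_ker_eq_bot _).1 h]; exact bot_le)⟩

variable {k : Type u} [Field k] {T A : Over (Spec (CommRingCat.of k))}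

local instance : Subsingleton ↥(Spec (CommRingCat.of k)) := inferInstanceAs (Subsingleton (PrimeSpectrum k))

/-- The identity point. -/
def eA (A : Over (Spec (CommRingCat.of k))) [GrpObj A] : A.left := (η[A]).left (IsLocalRing.closedPoint k)

variable [GrpObj A] [IsProper A.hom] [IsIntegral T.left] [Smooth T.hom] [QuasiCompact T.hom] [IsSeparated T.hom]
  [IsIntegral (T ⊗ T).left]

theorem smooth_tensor : Smooth (T ⊗ T).hom := by
  haveI : Smooth (pullback.fst T.hom T.hom) := MorphismProperty.pullback_fst _ _ inferInstance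
  exact inferInstanceAs (Smooth (pullback.fst T.hom T.hom ≫ T.hom))

theorem isRegularLocalRing_stalk {X : Scheme.{u}} (π : X ⟶ Spec (CommRingCat.of k)) [Smooth π] (x : X) :
    IsRegularLocalRing (X.presheaf.stalk x) := by
  letI : X.Over (Spec (CommRingCat.of k)) := ⟨π⟩
  haveI : Smooth (X ↘ Spec (CommRingCat.of k)) := ‹Smooth π›
  exact Groth.Agent.S1535.result k X x

theorem isNoetherian_left : IsNoetherian T.left := by
  haveI : IsLocallyNoetherian T.left := LocallyOfFiniteType.isLocallyNoetherian T.hom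
  haveI : CompactSpace T.left := QuasiCompact.compactSpace_of_compactSpace T.hom
  exact { }

variable {U : T.left.Opens} (hU : (U : Set T.left).Nonempty) (g : opn T U ⟶ A)

include hU in
theorem genericPoint_mem_sq : genericPoint (T ⊗ T).left ∈ sq U := by
  obtain ⟨x, hx⟩ := hU
  exact (genericPoint_specializes _).mem_open (sq U).2 (δ_mem_sq hx)

/-- The generic value of the difference map. -/
def genDiff : Spec ((T ⊗ T).left.presheaf.stalk (genericPoint (T ⊗ T).left)) ⟶ A.left :=
  (sq U).fromSpecStalkOfMem _ (genericPoint_mem_sq hU) ≫ (diff g).left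

theorem genDiff_specializes :
    genDiff hU g (IsLocalRing.closedPoint ((T ⊗ T).left.presheaf.stalk (genericPoint (T ⊗ T).left))) ⤳ eA A := by
  obtain ⟨x, hx⟩ := id hU
  have h : (⟨genericPoint (T ⊗ T).left, genericPoint_mem_sq hU⟩ : sq U) ⤳ ⟨(δ T).left x, δ_mem_sq hx⟩ :=
    (sq U).ι.isOpenEmbedding.isInducing.specializes_iff.1 (genericPoint_specializes _)
  have h' := h.map (diff g).left.continuous
  rw [genDiff, Scheme.Hom.comp_apply, fromSpecStalkOfMem_closedPoint]
  exact h'.trans (specializes_of_eq (diff_apply_diag g hx (IsLocalRing.closedPoint k)))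

include hU in
theorem defined_diag (x : T.left) : Defined (diff g) ((δ T).left x) := by
  classical
  let P := (T ⊗ T).left
  haveI := smooth_tensor (T := T)
  haveI := isNoetherian_left (T := T)
  let d : P := (δ T).left x
  haveI := isRegularLocalRing_stalk (T ⊗ T).hom d
  haveI : UniqueFactorizationMonoid (P.presheaf.stalk d) := RegLocal.ufd _
  haveI := isRegularLocalRing_stalk T.hom x
  haveI : UniqueFactorizationMonoid (T.left.presheaf.stalk x) := RegLocal.ufd _
  have hfst : (δ T).left ≫ (fst T T).left = 𝟙 T.left := congrArg CommaMorphism.left (lift_fst (𝟙 T) (𝟙 T))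
  haveI : IsClosedImmersion (δ T).left := by
    haveI : IsSeparated (fst T T).left := MorphismProperty.pullback_fst (P := @IsSeparated) _ _ inferInstance
    haveI : IsClosedImmersion ((δ T).left ≫ (fst T T).left) := by rw [hfst]; infer_instance
    exact IsClosedImmersion.of_comp (δ T).left (fst T T).left
  have hsurj : Function.Surjective ((δ T).left.stalkMap x) := (δ T).left.stalkMap_surjective x
  obtain ⟨ψ, hψ⟩ := exists_specMap_fromSpecStalk (genDiff hU g) (genDiff_specializes hU g)
  let ι₀ : P.presheaf.stalk d ⟶ P.presheaf.stalk (genericPoint P) :=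
    P.presheaf.stalkSpecializes (genericPoint_specializes d)
  have hmem : ∀ a, ∃ r, ι₀ r = ψ a := by
    intro a
    refine mem_range_of_small_primes (R := P.presheaf.stalk d) (K := P.functionField)
      ((δ T).left.stalkMap x).hom hsurj (ψ a) fun q hq => ?_
    let y : T.left := T.left.fromSpecStalk x q
    let Q : PrimeSpectrum (P.presheaf.stalk d) := PrimeSpectrum.comap ((δ T).left.stalkMap x).hom q
    let z : P := (δ T).left y
    have hzQ : z = P.fromSpecStalk d Q := by
      have e := congrArg (fun m : Spec (T.left.presheaf.stalk x) ⟶ P => m q)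
        (Scheme.SpecMap_stalkMap_fromSpecStalk (δ T).left (x := x))
      exact e.symm
    have hyx : y ⤳ x := specializes_fromSpecStalk x q
    have hzd : z ⤳ d := hyx.map (δ T).left.continuous
    have hdef : Defined g y := by
      rcases hq with h0 | ⟨π, hπ, hπq⟩
      · refine defined_of_mem g ?_
        obtain ⟨x₁, hx₁⟩ := id hU
        have hxy : y ⤳ x₁ := by
          have h1 : (genericPoint T.left) ⤳ x := genericPoint_specializes x
          obtain ⟨p, hp⟩ : genericPoint T.left ∈ Set.range (T.left.fromSpecStalk x) :=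
            T.left.range_fromSpecStalk.symm ▸ h1
          have h2 : q ⤳ p := (PrimeSpectrum.le_iff_specializes _ _).1 (show q.asIdeal ≤ p.asIdeal by rw [h0]; exact bot_le)
          exact (h2.map (T.left.fromSpecStalk x).continuous).trans (hp ▸ genericPoint_specializes x₁)
        exact hxy.mem_open U.2 hx₁
      · letI := (T.left.presheaf.stalkSpecializes hyx).hom.toAlgebra
        haveI hloc : IsLocalization.AtPrime (T.left.presheaf.stalk y) q.asIdeal :=
          isLocalization_fromSpecStalk x q rfl hyx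
        haveI : IsDiscreteValuationRing (T.left.presheaf.stalk y) := by
          have hm : IsLocalRing.maximalIdeal (T.left.presheaf.stalk y) =
              Ideal.span {algebraMap (T.left.presheaf.stalk x) (T.left.presheaf.stalk y) π} := by
            rw [← IsLocalization.AtPrime.map_eq_maximalIdeal q.asIdeal (T.left.presheaf.stalk y), hπq,
              Ideal.map_span, Set.image_singleton]
          haveI : IsNoetherianRing (T.left.presheaf.stalk y) := inferInstance
          have hnf : ¬ IsField (T.left.presheaf.stalk y) := fun hF => by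
            rw [IsLocalRing.isField_iff_maximalIdeal_eq, hm, Ideal.span_singleton_eq_bot] at hF
            refine hπ.ne_zero (IsLocalization.injective (T.left.presheaf.stalk y) q.asIdeal.primeCompl_le_nonZeroDivisors ?_)
            rw [hF, map_zero]
          have h40 : (IsLocalRing.maximalIdeal (T.left.presheaf.stalk y)).IsPrincipal ↔
              IsDiscreteValuationRing (T.left.presheaf.stalk y) :=
            (IsDiscreteValuationRing.TFAE (T.left.presheaf.stalk y) hnf).out 4 0
          exact h40.1 ⟨⟨_, hm⟩⟩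
        exact defined_of_dvr hU g y
    obtain ⟨W, h, hyW, hWU⟩ := hdef
    have hzW : z ∈ sq W := δ_mem_sq hyW
    have hz : ((sq W).fromSpecStalkOfMem z hzW ≫ (diff h).left) (IsLocalRing.closedPoint (P.presheaf.stalk z)) = eA A := by
      rw [Scheme.Hom.comp_apply, fromSpecStalkOfMem_closedPoint]
      exact diff_apply_diag h hyW _
    obtain ⟨χ, hχ⟩ := exists_specMap_fromSpecStalk ((sq W).fromSpecStalkOfMem z hzW ≫ (diff h).left)
      (e := eA A) (hz ▸ specializes_rfl)
    let ιz : P.presheaf.stalk z ⟶ P.presheaf.stalk (genericPoint P) :=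
      P.presheaf.stalkSpecializes (genericPoint_specializes z)
    have hξW : genericPoint P ∈ sq W := (genericPoint_specializes z).mem_open (sq W).2 hzW
    have hξ : genericPoint P ∈ sq (U ⊓ W) :=
      ⟨⟨(genericPoint_mem_sq hU).1, hξW.1⟩, ⟨(genericPoint_mem_sq hU).2, hξW.2⟩⟩
    have hψχ : χ ≫ ιz = ψ := by
      refine Spec.map_injective ?_
      rw [← cancel_mono (A.left.fromSpecStalk (eA A)), Spec.map_comp, Category.assoc, hχ, hψ, genDiff,
        ← Category.assoc, stalkSpecializes_fromSpecStalkOfMem, ← fromSpecStalkOfMem_homOfLE (sq_mono (inf_le_right : U ⊓ W ≤ W)) _ hξ,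
        ← fromSpecStalkOfMem_homOfLE (sq_mono (inf_le_left : U ⊓ W ≤ U)) _ hξ, Category.assoc, Category.assoc]
      refine congrArg (_ ≫ ·) (congrArg CommaMorphism.left (?_ :
        opnLE (sq_mono (inf_le_right : U ⊓ W ≤ W)) ≫ diff h = opnLE (sq_mono (inf_le_left : U ⊓ W ≤ U)) ≫ diff g))
      rw [opnLE_diff (inf_le_right : U ⊓ W ≤ W) h, opnLE_diff (inf_le_left : U ⊓ W ≤ U) g, hWU]
    obtain ⟨c, s, hs, hcs⟩ := exists_frac_fromSpecStalk d Q hzQ hzd (χ a)
    refine ⟨c, s, hs, ?_⟩
    rw [show (ψ a : P.functionField) = ιz (χ a) from congrArg (fun m : A.left.presheaf.stalk _ ⟶ _ => m a) hψχ.symm]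
    exact hcs
  choose ψ₀ hψ₀ using hmem
  have hinj : Function.Injective ι₀ := IsFractionRing.injective (P.presheaf.stalk d) P.functionField
  let ψ₁ : A.left.presheaf.stalk (eA A) ⟶ P.presheaf.stalk d := CommRingCat.ofHom
    { toFun := ψ₀
      map_one' := hinj (by rw [hψ₀, map_one, map_one])
      map_mul' := fun a b => hinj (by rw [hψ₀, map_mul, map_mul, hψ₀, hψ₀])
      map_zero' := hinj (by rw [hψ₀, map_zero, map_zero])
      map_add' := fun a b => hinj (by rw [hψ₀, map_add, map_add, hψ₀, hψ₀]) }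
  have hψ₁ : ψ₁ ≫ ι₀ = ψ := CommRingCat.hom_ext (RingHom.ext hψ₀)
  let φ : Spec (P.presheaf.stalk d) ⟶ A.left := Spec.map ψ₁ ≫ A.left.fromSpecStalk (eA A)
  have hgen : Spec.map ι₀ ≫ φ = genDiff hU g := by
    rw [← hψ, ← hψ₁, Spec.map_comp, Category.assoc]
  haveI := isDominant_stalkSpecializes d
  have hφ : φ ≫ A.hom = P.fromSpecStalk d ≫ (T ⊗ T).hom := by
    refine ext_of_isDominant (Spec.map ι₀) ?_
    rw [← Category.assoc, hgen, ← Category.assoc, Scheme.SpecMap_stalkSpecializes_fromSpecStalk, genDiff,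
      Category.assoc, Over.w (diff g)]
    show _ ≫ (sq U).ι ≫ (T ⊗ T).hom = _
    rw [← Category.assoc, Scheme.Opens.fromSpecStalkOfMem_ι]
  obtain ⟨V, hdV, v, hv, hv'⟩ := spread_out_of_isGermInjective' (T ⊗ T).hom A.hom φ hφ
  refine ⟨V, Over.homMk v hv', hdV, Over.OverMorphism.ext ?_⟩
  have hξV : genericPoint P ∈ V := (genericPoint_specializes d).mem_open V.2 hdV
  have hξ : genericPoint P ∈ sq U ⊓ V := ⟨genericPoint_mem_sq hU, hξV⟩
  haveI := isDominant_fromSpecStalkOfMem (sq U ⊓ V) hξ
  haveI : IsReduced (opn (T ⊗ T) (sq U ⊓ V)).left := inferInstanceAs (IsReduced ((sq U ⊓ V : P.Opens) : Scheme.{u}))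
  refine ext_of_isDominant_of_isSeparated A.hom ?_ ((sq U ⊓ V).fromSpecStalkOfMem _ hξ) ?_
  · show (P.homOfLE (inf_le_right : sq U ⊓ V ≤ V) ≫ v) ≫ A.hom = (P.homOfLE (inf_le_left : sq U ⊓ V ≤ sq U) ≫ (diff g).left) ≫ A.hom
    rw [Category.assoc, hv', Category.assoc, Over.w (diff g)]
    show _ = _ ≫ (sq U).ι ≫ _
    rw [← Category.assoc, ← Category.assoc]
    exact congrArg (· ≫ (T ⊗ T).hom) ((P.homOfLE_ι (inf_le_right : sq U ⊓ V ≤ V)).trans
      (P.homOfLE_ι (inf_le_left : sq U ⊓ V ≤ sq U)).symm)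
  · show _ ≫ P.homOfLE (inf_le_right : sq U ⊓ V ≤ V) ≫ v = _ ≫ P.homOfLE (inf_le_left : sq U ⊓ V ≤ sq U) ≫ (diff g).left
    rw [← Category.assoc, ← Category.assoc, fromSpecStalkOfMem_homOfLE, fromSpecStalkOfMem_homOfLE,
      ← stalkSpecializes_fromSpecStalkOfMem V (genericPoint_specializes d) hdV, Category.assoc]
    exact (congrArg (Spec.map ι₀ ≫ ·) hv).symm.trans hgen

include hU in
/-- The map extends near every point. -/
theorem defined_of_defined_diag (x : T.left) : Defined g x := by
  classical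
  let S := Spec (CommRingCat.of k)
  let P := (T ⊗ T).left
  haveI := smooth_tensor (T := T)
  haveI := isNoetherian_left (T := T)
  obtain ⟨N, H, hxN, hH⟩ := defined_diag hU g x
  let M : P.Opens := N ⊓ (snd T T).left ⁻¹ᵁ U
  let m₂ : opn (T ⊗ T) M ⟶ opn T U := Over.homMk ((snd T T).left.resLE U M inf_le_right) (by
    show _ ≫ U.ι ≫ T.hom = _
    rw [← Category.assoc, Scheme.Hom.resLE_comp_ι, Category.assoc]
    exact congrArg (M.ι ≫ ·) (Over.w (snd T T)))
  let φ : opn (T ⊗ T) M ⟶ A := (opnLE (inf_le_left : M ≤ N) ≫ H) * (m₂ ≫ g)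
  haveI : Smooth (fst T T).left := MorphismProperty.pullback_fst (P := @Smooth) _ _ inferInstance
  let π : (M : Scheme.{u}) ⟶ T.left := M.ι ≫ (fst T T).left
  haveI : Smooth π := inferInstance
  let W : T.left.Opens := ⟨Set.range π, π.isOpenMap.isOpen_range⟩
  have hMW : M ≤ (fst T T).left ⁻¹ᵁ W := fun z hz => ⟨⟨z, hz⟩, rfl⟩
  let q : (M : Scheme.{u}) ⟶ (W : Scheme.{u}) := (fst T T).left.resLE W M hMW
  have hqι : q ≫ W.ι = π := Scheme.Hom.resLE_comp_ι _ _
  haveI : Smooth q := IsZariskiLocalAtSource.resLE (P := @Smooth) _ inferInstance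
  haveI : Flat q := inferInstance
  haveI : Surjective q := ⟨fun w => by
    obtain ⟨z, hz⟩ := w.2
    refine ⟨z, W.ι.isOpenEmbedding.injective ?_⟩
    rw [← Scheme.Hom.comp_apply, hqι]
    exact hz⟩
  have hxW : x ∈ W := by
    let r := T.left.fromSpecResidueField x
    let F := pullback T.hom (r ≫ T.hom)
    let c : F ⟶ P := pullback.lift (pullback.snd T.hom (r ≫ T.hom) ≫ r) (pullback.fst T.hom (r ≫ T.hom)) (by
      rw [Category.assoc, pullback.condition])
    have hcfst : c ≫ (fst T T).left = pullback.snd T.hom (r ≫ T.hom) ≫ r := pullback.lift_fst _ _ _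
    have hcsnd : c ≫ (snd T T).left = pullback.fst T.hom (r ≫ T.hom) := pullback.lift_snd _ _ _
    haveI : UniversallyOpen (r ≫ T.hom) := Groth.Agent.S5335.universallyOpen_to_artinian _
    haveI : UniversallyOpen (pullback.fst T.hom (r ≫ T.hom)) := inferInstance
    let o : Spec (T.left.residueField x) ⟶ F := pullback.lift r (𝟙 _) (Category.id_comp _).symm
    have hd1 : (δ T).left ≫ pullback.fst T.hom T.hom = 𝟙 _ := congrArg CommaMorphism.left (lift_fst (𝟙 T) (𝟙 T))
    have hd2 : (δ T).left ≫ pullback.snd T.hom T.hom = 𝟙 _ := congrArg CommaMorphism.left (lift_snd (𝟙 T) (𝟙 T))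
    have ho : o ≫ c = r ≫ (δ T).left := by
      apply pullback.hom_ext
      · rw [Category.assoc, pullback.lift_fst, ← Category.assoc, pullback.lift_snd, Category.id_comp]
        exact ((Category.assoc _ _ _).trans ((congrArg (r ≫ ·) hd1).trans (Category.comp_id _))).symm
      · rw [Category.assoc, pullback.lift_snd, pullback.lift_fst]
        exact ((Category.assoc _ _ _).trans ((congrArg (r ≫ ·) hd2).trans (Category.comp_id _))).symm
    let pt : Spec (T.left.residueField x) := IsLocalRing.closedPoint (T.left.residueField x)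
    have hne : ((pullback.fst T.hom (r ≫ T.hom)) '' (c ⁻¹' (N : Set P))).Nonempty := by
      refine ⟨_, o pt, ?_, rfl⟩
      show c (o pt) ∈ N
      rw [← Scheme.Hom.comp_apply, ho, Scheme.Hom.comp_apply, T.left.fromSpecResidueField_apply]
      exact hxN
    obtain ⟨t, ⟨w, hwN, rfl⟩, htU⟩ := nonempty_preirreducible_inter
      ((pullback.fst T.hom (r ≫ T.hom)).isOpenMap _ (N.2.preimage c.continuous)) U.2 hne hU
    refine ⟨⟨c w, hwN, ?_⟩, ?_⟩
    · show (snd T T).left (c w) ∈ U
      rw [← Scheme.Hom.comp_apply, hcsnd]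
      exact htU
    · show (fst T T).left (c w) = x
      rw [← Scheme.Hom.comp_apply, hcfst, Scheme.Hom.comp_apply, T.left.fromSpecResidueField_apply]
  let O : P.Opens := M ⊓ (fst T T).left ⁻¹ᵁ U
  let j : opn (T ⊗ T) O ⟶ opn T U := Over.homMk ((fst T T).left.resLE U O inf_le_right) (by
    show _ ≫ U.ι ≫ T.hom = _
    rw [← Category.assoc, Scheme.Hom.resLE_comp_ι, Category.assoc]
    exact congrArg (O.ι ≫ ·) (Over.w (fst T T)))
  have hO : opnLE (inf_le_left : O ≤ M) ≫ φ = j ≫ g := by
    have hON : O ≤ sq U ⊓ N := fun z hz => ⟨⟨hz.2, hz.1.2⟩, hz.1.1⟩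
    have e1 : opnLE (inf_le_left : O ≤ M) ≫ opnLE (inf_le_left : M ≤ N) =
        opnLE hON ≫ opnLE (inf_le_right : sq U ⊓ N ≤ N) := by rw [opnLE_comp, opnLE_comp]
    have e2 : opnLE (hON.trans inf_le_left : O ≤ sq U) ≫ pr₁ U = j := by
      rw [← cancel_mono (opnι U), Category.assoc, pr₁_ι, ← Category.assoc, opnLE_ι]
      exact (Over.OverMorphism.ext (Scheme.Hom.resLE_comp_ι _ _)).symm
    have e3 : opnLE (hON.trans inf_le_left : O ≤ sq U) ≫ pr₂ U = opnLE (inf_le_left : O ≤ M) ≫ m₂ := by
      have hm : m₂ ≫ opnι U = opnι M ≫ snd T T := Over.OverMorphism.ext (Scheme.Hom.resLE_comp_ι _ _)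
      rw [← cancel_mono (opnι U), Category.assoc, pr₂_ι, Category.assoc, hm, ← Category.assoc, ← Category.assoc,
        opnLE_ι, opnLE_ι]
    rw [MonObj.comp_mul, ← Category.assoc, e1, Category.assoc, hH, ← Category.assoc, opnLE_comp, diff,
      MonObj.comp_mul, GrpObj.comp_inv, ← Category.assoc, ← Category.assoc, e2, e3, Category.assoc,
      inv_mul_cancel_right]
  let R := pullback q q
  haveI : Smooth (pullback.fst q q) := MorphismProperty.pullback_fst _ _ inferInstance
  haveI : Smooth (pullback.fst q q ≫ π ≫ T.hom) := inferInstance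
  haveI : IsReduced R := ASp.isReduced_of_smooth (pullback.fst q q ≫ π ≫ T.hom)
  let ρ : R ⟶ T.left := pullback.fst q q ≫ π
  haveI : Smooth ρ := inferInstance
  let O' : R.Opens := ρ ⁻¹ᵁ U
  haveI : IsDominant O'.ι := ⟨by
    rw [DenseRange, Scheme.Opens.range_ι, dense_iff_inter_open]
    intro Z hZ hZne
    obtain ⟨t, ⟨w, hwZ, rfl⟩, htU⟩ := nonempty_preirreducible_inter (ρ.isOpenMap Z hZ) U.2 (hZne.image ρ) hU
    exact ⟨w, hwZ, htU⟩⟩
  have hsep : pullback.fst q q ≫ φ.left = pullback.snd q q ≫ φ.left := by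
    have hπ : pullback.snd q q ≫ π = pullback.fst q q ≫ π := by rw [← hqι, pullback.condition_assoc]
    refine ext_of_isDominant_of_isSeparated A.hom ?_ O'.ι ?_
    · rw [Category.assoc, Category.assoc, Over.w φ]
      show pullback.fst q q ≫ M.ι ≫ (T ⊗ T).hom = pullback.snd q q ≫ M.ι ≫ (T ⊗ T).hom
      rw [← Over.w (fst T T)]
      have e := congrArg (· ≫ T.hom) hπ.symm
      simp only [π, Category.assoc] at e
      exact e
    · have key : ∀ (l : R ⟶ (M : Scheme.{u})), l ≫ π = ρ →
          ∃ l' : (O' : Scheme.{u}) ⟶ (O : Scheme.{u}), l' ≫ P.homOfLE (inf_le_left : O ≤ M) = O'.ι ≫ l := by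
        intro l hl
        refine ⟨IsOpenImmersion.lift O.ι (O'.ι ≫ l ≫ M.ι) ?_, ?_⟩
        · rintro _ ⟨z, rfl⟩
          rw [Scheme.Opens.range_ι]
          refine ⟨?_, ?_⟩
          · rw [Scheme.Hom.comp_apply, Scheme.Hom.comp_apply]
            exact (l (O'.ι z)).2
          · show (fst T T).left ((O'.ι ≫ l ≫ M.ι) z) ∈ U
            rw [← Scheme.Hom.comp_apply, Category.assoc, Category.assoc]
            show (O'.ι ≫ l ≫ π) z ∈ U
            rw [hl, Scheme.Hom.comp_apply]
            exact z.2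
        · rw [← cancel_mono M.ι, Category.assoc, P.homOfLE_ι, IsOpenImmersion.lift_fac, Category.assoc]
      obtain ⟨l₁, hl₁⟩ := key (pullback.fst q q) rfl
      obtain ⟨l₂, hl₂⟩ := key (pullback.snd q q) hπ
      have hO' : P.homOfLE (inf_le_left : O ≤ M) ≫ φ.left = j.left ≫ g.left := congrArg CommaMorphism.left hO
      rw [← Category.assoc, ← Category.assoc, ← hl₁, ← hl₂, Category.assoc, Category.assoc, hO', ← Category.assoc,
        ← Category.assoc]
      congr 1
      have hj : ∀ l' : (O' : Scheme.{u}) ⟶ (O : Scheme.{u}), (l' ≫ j.left) ≫ U.ι =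
          (l' ≫ P.homOfLE (inf_le_left : O ≤ M)) ≫ π := fun l' => by
        show (l' ≫ (fst T T).left.resLE U O _) ≫ U.ι = _
        rw [Category.assoc, Scheme.Hom.resLE_comp_ι, Category.assoc]
        show _ = l' ≫ P.homOfLE _ ≫ M.ι ≫ _
        rw [← Category.assoc (P.homOfLE _), P.homOfLE_ι]
      rw [← cancel_mono U.ι, hj, hj, hl₁, hl₂, Category.assoc, Category.assoc, hπ]
  obtain ⟨h, hqh⟩ : ∃ h : (W : Scheme.{u}) ⟶ A.left, q ≫ h = φ.left :=
    ⟨EffectiveEpi.desc q φ.left fun g₁ g₂ e => by
      have h1 := congrArg (pullback.lift g₁ g₂ e ≫ ·) hsep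
      simp only [← Category.assoc, pullback.lift_fst, pullback.lift_snd] at h1
      exact h1,
      EffectiveEpi.fac _ _ _⟩
  have hw : h ≫ A.hom = W.ι ≫ T.hom := by
    rw [← cancel_epi q, ← Category.assoc, hqh, Over.w φ, ← Category.assoc, hqι, Category.assoc, Over.w (fst T T)]
    rfl
  refine ⟨W, Over.homMk h hw, hxW, ?_⟩
  apply Over.OverMorphism.ext
  show T.left.homOfLE (inf_le_right : U ⊓ W ≤ W) ≫ h = T.left.homOfLE (inf_le_left : U ⊓ W ≤ U) ≫ g.left
  have hO'' : O ≤ (fst T T).left ⁻¹ᵁ (U ⊓ W) := fun z hz => ⟨hz.2, hMW hz.1⟩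
  let e := (fst T T).left.resLE (U ⊓ W) O hO''
  haveI : IsDominant e := ⟨by
    rw [DenseRange, dense_iff_inter_open]
    intro Z hZ hZne
    obtain ⟨z, hz⟩ := hZne
    obtain ⟨w, hw'⟩ := z.2.2
    let Z' : Set T.left := (U ⊓ W : T.left.Opens).ι '' Z
    refine ⟨⟨z.1, z.2⟩, hz, ⟨⟨w.1, w.2, ?_⟩, ?_⟩⟩
    · show (fst T T).left w.1 ∈ U
      exact hw' ▸ z.2.1
    · refine (U ⊓ W : T.left.Opens).ι.isOpenEmbedding.injective ?_
      rw [← Scheme.Hom.comp_apply, Scheme.Hom.resLE_comp_ι]
      exact hw'⟩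
  refine ext_of_isDominant_of_isSeparated A.hom ?_ e ?_
  · rw [Category.assoc, Category.assoc, hw, Over.w g]
    show _ = T.left.homOfLE _ ≫ U.ι ≫ T.hom
    rw [← Category.assoc, ← Category.assoc, T.left.homOfLE_ι, T.left.homOfLE_ι]
  · have e1 : e ≫ T.left.homOfLE (inf_le_right : U ⊓ W ≤ W) = P.homOfLE (inf_le_left : O ≤ M) ≫ q := by
      rw [← cancel_mono W.ι, Category.assoc, T.left.homOfLE_ι, Scheme.Hom.resLE_comp_ι, Category.assoc, hqι,
        ← Category.assoc, P.homOfLE_ι]
    have e2 : e ≫ T.left.homOfLE (inf_le_left : U ⊓ W ≤ U) = j.left := by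
      rw [← cancel_mono U.ι, Category.assoc, T.left.homOfLE_ι, Scheme.Hom.resLE_comp_ι]
      exact (Scheme.Hom.resLE_comp_ι _ _).symm
    rw [← Category.assoc, ← Category.assoc, e1, e2, Category.assoc, hqh]
    exact congrArg CommaMorphism.left hO

include hU in
/-- A map on a nonempty open of a smooth variety to a proper group scheme extends to the whole variety. -/
theorem exists_extension : ∃ g' : T ⟶ A, opnι U ≫ g' = g :=
  exists_of_forall_defined hU g (defined_of_defined_diag hU g)

end Groth.Agent.AVExtLib
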