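import Groth.Agent.CBLib.RankEval
import Groth.Agent.InfNbhdLib.Scheme
import Mathlib.RingTheory.RegularLocalRing.Defs

/-!
# Fat points on surfaces impose few conditions
-/

set_option autoImplicit false
set_option backward.isDefEq.respectTransparency false
set_option linter.style.haveILetI false
set_option linter.unusedSectionVars false
set_option maxHeartbeats 1000000

universe u

open CategoryTheory CategoryTheory.Limits AlgebraicGeometry TopologicalSpace Opposite
open Groth.Agent.PullbackMod Groth.Agent.DCohLib Groth.Agent.CohBase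

noncomputable section

namespace Groth.Agent.AVExtLib

theorem two_mul_card_sigma (n : ℕ) : 2 * Fintype.card ((d : Fin n) × Fin (d.1 + 1)) = n * (n + 1) := by
  rw [Fintype.card_sigma]
  simp only [Fintype.card_fin]
  rw [Fin.sum_univ_eq_sum_range fun i => i + 1]
  induction n with
  | zero => simp
  | succ n ih => rw [Finset.sum_range_succ, mul_add, ih]; ring

section Monomials

variable {k A : Type u} [Field k] [CommRing A] [IsLocalRing A] [Algebra k A] (x y : A)

/-- The monomials of degree `d`. -/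
abbrev monSpan (d : ℕ) : Submodule k A := Submodule.span k (Set.range fun i : Fin (d + 1) => x ^ i.1 * y ^ (d - i.1))

theorem mul_mem_monSpan {d : ℕ} {a : A} (ha : a ∈ monSpan (k := k) x y d) :
    a * x ∈ monSpan (k := k) x y (d + 1) ∧ a * y ∈ monSpan (k := k) x y (d + 1) := by
  induction ha using Submodule.span_induction with
  | mem a ha =>
    obtain ⟨i, rfl⟩ := ha
    refine ⟨Submodule.subset_span ⟨⟨i.1 + 1, by omega⟩, ?_⟩, Submodule.subset_span ⟨⟨i.1, by omega⟩, ?_⟩⟩
    · show x ^ (i.1 + 1) * y ^ (d + 1 - (i.1 + 1)) = x ^ i.1 * y ^ (d - i.1) * x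
      rw [Nat.add_sub_add_right, pow_succ]; ring
    · show x ^ i.1 * y ^ (d + 1 - i.1) = x ^ i.1 * y ^ (d - i.1) * y
      rw [Nat.sub_add_comm (by omega), pow_succ]; ring
  | zero => simp
  | add a b _ _ ha hb => exact ⟨by rw [add_mul]; exact add_mem ha.1 hb.1, by rw [add_mul]; exact add_mem ha.2 hb.2⟩
  | smul c a _ ha =>
    exact ⟨by rw [smul_mul_assoc]; exact Submodule.smul_mem _ c ha.1,
      by rw [smul_mul_assoc]; exact Submodule.smul_mem _ c ha.2⟩

theorem exists_mon_sub_mem (hres : ∀ r : A, ∃ c : k, r - algebraMap k A c ∈ IsLocalRing.maximalIdeal A)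
    (hxy : IsLocalRing.maximalIdeal A = Ideal.span {x, y}) (d : ℕ) :
    ∀ a ∈ IsLocalRing.maximalIdeal A ^ d, ∃ s ∈ monSpan (k := k) x y d,
      a - s ∈ IsLocalRing.maximalIdeal A ^ (d + 1) := by
  induction d with
  | zero =>
    intro a _
    obtain ⟨c, hc⟩ := hres a
    refine ⟨algebraMap k A c, ?_, by rwa [zero_add, pow_one]⟩
    rw [Algebra.algebraMap_eq_smul_one]
    exact Submodule.smul_mem _ _ (Submodule.subset_span ⟨0, by simp⟩)
  | succ d ih =>
    intro a ha
    rw [pow_succ] at ha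
    refine Submodule.mul_induction_on ha (fun p hp q hq => ?_) fun p q ⟨s, hs, hs'⟩ ⟨t, ht, ht'⟩ => ?_
    · rw [hxy] at hq
      obtain ⟨r, r', rfl⟩ := Ideal.mem_span_pair.1 hq
      obtain ⟨s, hs, hs'⟩ := ih (p * r) (Ideal.mul_mem_right _ _ hp)
      obtain ⟨t, ht, ht'⟩ := ih (p * r') (Ideal.mul_mem_right _ _ hp)
      refine ⟨s * x + t * y, add_mem (mul_mem_monSpan x y hs).1 (mul_mem_monSpan x y ht).2, ?_⟩
      rw [show p * (r * x + r' * y) - (s * x + t * y) = (p * r - s) * x + (p * r' - t) * y by ring, pow_succ]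
      refine add_mem (Ideal.mul_mem_mul hs' ?_) (Ideal.mul_mem_mul ht' ?_)
      · rw [hxy]; exact Ideal.subset_span (Set.mem_insert _ _)
      · rw [hxy]; exact Ideal.subset_span (Set.mem_insert_of_mem _ rfl)
    · exact ⟨s + t, add_mem hs ht, by rw [add_sub_add_comm]; exact add_mem hs' ht'⟩

theorem exists_all_mon_sub_mem (hres : ∀ r : A, ∃ c : k, r - algebraMap k A c ∈ IsLocalRing.maximalIdeal A)
    (hxy : IsLocalRing.maximalIdeal A = Ideal.span {x, y}) (n : ℕ) (a : A) :
    ∃ s ∈ Submodule.span k (Set.range fun p : (d : Fin n) × Fin (d.1 + 1) => x ^ p.2.1 * y ^ (p.1.1 - p.2.1)),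
      a - s ∈ IsLocalRing.maximalIdeal A ^ n := by
  induction n with
  | zero => exact ⟨0, zero_mem _, by simp⟩
  | succ n ih =>
    obtain ⟨s, hs, hs'⟩ := ih
    obtain ⟨t, ht, ht'⟩ := exists_mon_sub_mem x y hres hxy n (a - s) hs'
    refine ⟨s + t, add_mem (Submodule.span_mono ?_ hs) (Submodule.span_mono ?_ ht), by rwa [← sub_sub]⟩
    · rintro _ ⟨p, rfl⟩; exact ⟨⟨⟨p.1.1, by omega⟩, p.2⟩, rfl⟩
    · rintro _ ⟨i, rfl⟩; exact ⟨⟨⟨n, by omega⟩, i⟩, rfl⟩

/-- A quotient of a two dimensional regular local ring killing the `n`-th power of the maximal ideal has at most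
`n (n + 1) / 2` dimensions. -/
theorem two_mul_finrank_le [IsRegularLocalRing A] (hdim : ringKrullDim A = 2)
    (hres : ∀ r : A, ∃ c : k, r - algebraMap k A c ∈ IsLocalRing.maximalIdeal A)
    {P : Type u} [AddCommGroup P] [Module k P] (f : A →ₗ[k] P) (hf : Function.Surjective f) (n : ℕ)
    (hn : ∀ a ∈ IsLocalRing.maximalIdeal A ^ n, f a = 0) :
    Module.Finite k P ∧ 2 * Module.finrank k P ≤ n * (n + 1) := by
  obtain ⟨x, y, hxy⟩ : ∃ x y : A, IsLocalRing.maximalIdeal A = Ideal.span {x, y} := by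
    have h2 : (IsLocalRing.maximalIdeal A).spanFinrank = 2 := by
      have h := IsRegularLocalRing.spanFinrank_maximalIdeal (R := A)
      rw [hdim] at h
      exact_mod_cast h
    have hfg : Submodule.FG (IsLocalRing.maximalIdeal A) := IsNoetherian.noetherian _
    have hc := hfg.generators_ncard
    rw [h2] at hc
    obtain ⟨x, y, -, hs⟩ := Set.ncard_eq_two.1 hc
    refine ⟨x, y, ?_⟩
    rw [← hs]
    exact (Submodule.span_generators _).symm
  let g : (((d : Fin n) × Fin (d.1 + 1)) → k) →ₗ[k] P :=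
    f.comp (Fintype.linearCombination k fun p => x ^ p.2.1 * y ^ (p.1.1 - p.2.1))
  have hg : Function.Surjective g := fun v => by
    obtain ⟨a, rfl⟩ := hf v
    obtain ⟨s, hs, hs'⟩ := exists_all_mon_sub_mem x y hres hxy n a
    rw [← Fintype.range_linearCombination] at hs
    obtain ⟨c, rfl⟩ := hs
    refine ⟨c, ?_⟩
    have h := hn _ hs'
    rw [map_sub, sub_eq_zero] at h
    exact h.symm
  haveI := Module.Finite.of_surjective g hg
  refine ⟨inferInstance, ?_⟩
  have h := g.finrank_le_finrank_of_surjective hg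
  rw [Module.finrank_fintype_fun_eq_card] at h
  calc 2 * Module.finrank k P ≤ 2 * Fintype.card ((d : Fin n) × Fin (d.1 + 1)) := by omega
    _ = n * (n + 1) := two_mul_card_sigma n

end Monomials

section Scheme

variable (k : Type u) [Field k] [IsAlgClosed k] {X : Scheme.{u}} [X.Over (Spec (CommRingCat.of k))]
  [IsProper (X ↘ Spec (CommRingCat.of k))]

theorem pointPow_prod_le {ι : Type u} [Fintype ι] [DecidableEq ι] (J : ι → X.IdealSheafData) :
    ∏ i, J i ≤ ⨅ i, J i :=
  le_iInf fun i => by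
    rw [← Finset.mul_prod_erase _ _ (Finset.mem_univ i)]
    exact mul_le_of_le_one_right' le_top

theorem support_subset_of_stalkIdeal {I : X.IdealSheafData} {S : Set X}
    (h : ∀ x, x ∉ S → IntMult.stalkIdeal I x = ⊤) : (I.support : Set X) ⊆ S := fun x hx => by
  by_contra hxS
  exact (IsLocalRing.maximalIdeal.isMaximal _).ne_top
    (top_le_iff.1 ((h x hxS).ge.trans (IdealStalkLib.stalkIdeal_le_maximal I hx)))

/-- `n`-fold points impose at most `n (n + 1) / 2` conditions each on the sections of an invertible module. -/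
theorem two_mul_h0_le (hreg : ∀ x : X, IsClosed ({x} : Set X) → IsRegularLocalRing (X.presheaf.stalk x) ∧
      ringKrullDim (X.presheaf.stalk x) = 2)
    {P : X.Modules} (hP : PicF.IsInvertible P) (Z : Finset X) (hZ : ∀ z ∈ Z, IsClosed ({z} : Set X)) (n : ℕ) :
    2 * Module.finrank k (Coh.HH X P 0) ≤ Z.card * (n * (n + 1)) +
      2 * Module.finrank k (Coh.HH X (CohB1.tensorMod P (ClSub.idealMod
        (⨅ z : ↥Z, (W4c2seshadripos.pointIdeal (z : X) (hZ z z.2)) ^ n))) 0) := by
  classical
  haveI := EulerIneqLib.isNoetherian_proper (X := X) k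
  haveI := EulerIneqLib.finite_HH (k := k) (CurveLib.isCoh_of_isInvertible hP) 0
  let J : ↥Z → X.IdealSheafData := fun z => (W4c2seshadripos.pointIdeal (z : X) (hZ z z.2)) ^ n
  let I := ⨅ z : ↥Z, J z
  have hle := pointPow_prod_le J
  have hst : ∀ x, ∏ z : ↥Z, IntMult.stalkIdeal (W4c2seshadripos.pointIdeal (z : X) (hZ z z.2)) x ^ n ≤
      IntMult.stalkIdeal I x := fun x => by
    refine le_trans (le_of_eq ?_) (H1ZeroLib.stalkIdeal_mono hle x)
    symm
    induction (Finset.univ : Finset ↥Z) using Finset.induction_on with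
    | empty => rw [Finset.prod_empty, Finset.prod_empty, DivisorialLib.stalkIdeal_one, Ideal.one_eq_top]
    | insert j t hj ih =>
      rw [Finset.prod_insert hj, Finset.prod_insert hj, DivisorialLib.stalkIdeal_mul, InfNbhdLib.stalkIdeal_pow, ih]
  have hoff : ∀ z : ↥Z, ∀ x : X, x ≠ z → IntMult.stalkIdeal (W4c2seshadripos.pointIdeal (z : X) (hZ z z.2)) x = ⊤ :=
    fun z x hx => IdealMulLib.stalkIdeal_eq_top _ (by
      intro h
      rw [← SetLike.mem_coe, W4c2seshadripos.pointIdeal, Scheme.IdealSheafData.coe_support_vanishingIdeal] at h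
      exact hx h)
  have hS : (I.support : Set X) ⊆ (Z : Set X) := support_subset_of_stalkIdeal fun x hx => by
    refine top_le_iff.1 (le_trans (le_of_eq ?_) (hst x))
    symm
    rw [← Ideal.one_eq_top]
    refine Finset.prod_eq_one fun z _ => ?_
    rw [hoff z x (fun h => hx (h ▸ z.2)), ← Ideal.one_eq_top, one_pow]
  have hgen : ∀ z : (Z : Set X), ∃ e, KoszTwLib.IsGen P z.1 e := fun z => ParaFLib.exists_stalk_gen hP z.1
  choose g hg using hgen
  have h := CBLib.finrank_ev_add k I (Z : Set X) hS hP hg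
  suffices hb : 2 * Module.finrank k (LinearMap.range (CBLib.evQ k I (Z : Set X) hg)) ≤ Z.card * (n * (n + 1)) by
    show _ ≤ _ + 2 * Module.finrank k (Coh.HH X (CohB1.tensorMod P (ClSub.idealMod I)) 0)
    omega
  have hR : ∀ z : (Z : Set X), Module.Finite k (CBLib.RQ k I z.1) ∧
      2 * Module.finrank k (CBLib.RQ k I z.1) ≤ n * (n + 1) := fun z => by
    obtain ⟨hr, hd⟩ := hreg z.1 (hZ z.1 z.2)
    letI : Algebra k (X.presheaf.stalk z.1) := (Curv2.stalkMap k X z.1).toAlgebra
    haveI := hr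
    let f : X.presheaf.stalk z.1 →ₗ[k] CBLib.RQ k I z.1 :=
      { toFun := CBLib.rq k I z.1
        map_add' := map_add _
        map_smul' := fun c a => by
          rw [Algebra.smul_def, map_mul, RingHom.id_apply, Algebra.smul_def]
          rfl }
    refine two_mul_finrank_le hd (fun r => CBLib.exists_const (k := k) (hZ z.1 z.2) r) f
      (CBLib.rq_surjective k I z.1) n fun a ha => (CBLib.rq_eq_zero_iff k).2 (hst z.1 ?_)
    rw [← Finset.mul_prod_erase _ _ (Finset.mem_univ (⟨z.1, z.2⟩ : ↥Z)), Finset.prod_eq_one fun w hw => ?_, mul_one]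
    · have h1 : IntMult.stalkIdeal (W4c2seshadripos.pointIdeal z.1 (hZ z.1 z.2)) z.1 =
          IsLocalRing.maximalIdeal (X.presheaf.stalk z.1) :=
        (CliffCurveLib.stalkIdeal_point (hZ z.1 z.2)).1
      show a ∈ IntMult.stalkIdeal (W4c2seshadripos.pointIdeal z.1 (hZ z.1 z.2)) z.1 ^ n
      rw [h1]
      exact ha
    · rw [hoff w z.1 (fun h => (Finset.mem_erase.1 hw).1 (Subtype.ext h.symm)), ← Ideal.one_eq_top, one_pow]
  haveI : ∀ z : (Z : Set X), Module.Finite k (CBLib.RQ k I z.1) := fun z => (hR z).1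
  refine le_trans (Nat.mul_le_mul_left 2 (Submodule.finrank_le _)) ?_
  rw [Module.finrank_pi_fintype, Finset.mul_sum]
  refine le_trans (Finset.sum_le_card_nsmul _ _ (n * (n + 1)) fun z _ => (hR z).2) ?_
  rw [Finset.card_univ, smul_eq_mul]
  exact le_of_eq (congrArg (· * _) (Fintype.card_coe Z))

end Scheme

end Groth.Agent.AVExtLib
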