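import Groth.Agent.S3634
import Groth.Agent.S3635
import Groth.Agent.TwistShriek.ShriekIndep
import Groth.Agent.TwistShriek.LocalDuality
import Groth.Agent.RegLib.Basic

/-!
# Local duality at a rational point of a smooth proper scheme with trivial canonical sheaf
-/

set_option autoImplicit false
set_option linter.style.haveILetI false
set_option linter.unusedSectionVars false
set_option backward.isDefEq.respectTransparency false
set_option maxHeartbeats 1600000

universe u

open CategoryTheory CategoryTheory.Limits AlgebraicGeometry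

attribute [local instance] HasDerivedCategory.standard

noncomputable section

namespace Groth.Agent.AVExtLib

variable (k : Type u) [Field k] {X : Scheme.{u}} (g : ℕ)
  (p : X ⟶ Spec (CommRingCat.of k)) [IsProper p] [SmoothOfRelativeDimension g p]
  (e : Spec (CommRingCat.of k) ⟶ X)

/-- The Ext sheaves of the skyscraper sheaf at a rational point into the structure sheaf are concentrated in the
dimension, where they give the skyscraper sheaf back. -/
theorem exists_iso_HD_rSheafHom_point (he : e ≫ p = 𝟙 _) (L : X.Modules) (hL : ExtPow.IsExtPow g (Omega.sheaf p) L)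
    (eL : L ≅ Coh.structureModule X) (E : CochainComplex X.Modules ℤ)
    [DCoh.HasLTensorCx E] [DCoh.HasRSheafHom E]
    (hE : Nonempty (DCoh.toD X E ≅ DCoh.inD X ((Scheme.Modules.pushforward e).obj
      (Coh.structureModule (Spec (CommRingCat.of k)))))) (n : ℤ) :
    Nonempty (DCoh.HD ((DCoh.RSheafHom E).obj (DCoh.inD X (Coh.structureModule X))) n ≅
      (Scheme.Modules.pushforward e).obj
        (DCoh.HD (DCoh.inD (Spec (CommRingCat.of k)) (Coh.structureModule _)) (n - g))) := by
  haveI : IsNoetherianRing (CommRingCat.of k) := inferInstanceAs (IsNoetherianRing k)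
  haveI : IsLocallyNoetherian X := LocallyOfFiniteType.isLocallyNoetherian p
  haveI : CompactSpace X := QuasiCompact.compactSpace_of_compactSpace p
  haveI : IsNoetherian X := {}
  haveI : IsClosedImmersion e := by
    haveI : IsClosedImmersion (e ≫ p) := by rw [he]; infer_instance
    exact IsClosedImmersion.of_comp e p
  haveI : Dual3.HasHomO e := Dual3Lib.isLeftAdjoint_pushforward e
  haveI : EnoughInjectives X.Modules := SiteBase.enoughInjectives_sheafOfModules _
  haveI : PreservesFiniteLimits (Scheme.Modules.pushforward e) := DCohLib.preservesFiniteLimits_pushforward e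
  haveI : PreservesFiniteColimits (Scheme.Modules.pushforward e) := DCohLib.preservesFiniteColimits_pushforward e
  haveI := DCohMore.BC.hasRpush e
  haveI := DCohMore.BC.hasRpush p
  haveI := DCohMore.BC.hasRpush (e ≫ p)
  haveI := DCohMore.BC.hasRpush (𝟙 (Spec (CommRingCat.of k)))
  have he' := TwistShriek.rpushQC e
  have hp' := TwistShriek.rpushQC p
  haveI := TwistShriek.isLeftAdjoint_rpushQ' e
  haveI := TwistShriek.isLeftAdjoint_rpushQ' p
  let a := (DCoh.RpushQ e (TwistShriek.rpushQC e)).rightAdjoint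
  let adjA : DCoh.RpushQ e (TwistShriek.rpushQC e) ⊣ a := Adjunction.ofIsLeftAdjoint _
  let b := (DCoh.RpushQ p (TwistShriek.rpushQC p)).rightAdjoint
  let adjB : DCoh.RpushQ p (TwistShriek.rpushQC p) ⊣ b := Adjunction.ofIsLeftAdjoint _
  obtain ⟨c1⟩ := DCohLib.nonempty_rpushCompIso e p
  obtain ⟨c2⟩ := TwistShriek.nonempty_rpush_congr he
  obtain ⟨c3⟩ := TwistShriek.nonempty_rpush_id (X := Spec (CommRingCat.of k))
  let cc := c1 ≪≫ c2 ≪≫ c3
  let ccQ : DCoh.RpushQ e (TwistShriek.rpushQC e) ⋙ DCoh.RpushQ p (TwistShriek.rpushQC p) ≅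
      𝟭 (DCoh.DQCoh (Spec (CommRingCat.of k))) :=
    NatIso.ofComponents (fun K => ObjectProperty.isoMk _ (cc.app K.obj))
      fun φ => ObjectProperty.hom_ext _ (cc.hom.naturality φ.hom)
  let eBA : b ⋙ a ≅ 𝟭 _ := ((adjA.comp adjB).ofNatIsoLeft ccQ).rightAdjointUniq Adjunction.id
  let Ok : DCoh.DQCoh (Spec (CommRingCat.of k)) :=
    ⟨DCoh.inD _ (Coh.structureModule _), RegLib.isQCohD_inD _ inferInstance⟩
  let OX : DCoh.DQCoh X := ⟨DCoh.inD X (Coh.structureModule X), RegLib.isQCohD_inD _ inferInstance⟩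
  obtain ⟨eb⟩ := S3635.result (Spec (CommRingCat.of k)) X g p (TwistShriek.rpushQC p) b adjB Ok ⟨Iso.refl _⟩ L hL
  obtain ⟨cA, -⟩ := DQCohBrown.exists_triangulated_rpushQ e (TwistShriek.rpushQC e)
  letI : (DCoh.RpushQ e (TwistShriek.rpushQC e)).CommShift ℤ := cA
  letI := adjA.rightAdjointCommShift ℤ
  let iB : b.obj Ok ≅ OX⟦(g : ℤ)⟧ := ObjectProperty.isoMk _ (eb ≪≫
    (shiftFunctor (DCoh.D X) (g : ℤ)).mapIso ((DerivedCategory.singleFunctor X.Modules 0).mapIso eL) ≪≫
    (((ObjectProperty.ι DCoh.IsQCohD).commShiftIso (g : ℤ)).app OX).symm)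
  let iA : (a.obj OX).obj⟦(g : ℤ)⟧ ≅ DCoh.inD _ (Coh.structureModule (Spec (CommRingCat.of k))) :=
    (((ObjectProperty.ι DCoh.IsQCohD).commShiftIso (g : ℤ)).app (a.obj OX)).symm ≪≫
      (ObjectProperty.ι DCoh.IsQCohD).mapIso
        (((a.commShiftIso (g : ℤ)).app OX).symm ≪≫ a.mapIso iB.symm ≪≫ eBA.app Ok)
  let Kb : (Dual3.IsBddBelowQ X).FullSubcategory :=
    ⟨OX, ⟨0, inferInstanceAs (DerivedCategory.IsGE ((DerivedCategory.singleFunctor X.Modules 0).obj _) 0)⟩⟩
  obtain ⟨eR⟩ := S3634.result (Spec (CommRingCat.of k)) X e (TwistShriek.rpushQC e) a adjA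
  obtain ⟨eP⟩ := TwistShriek.nonempty_pushD_RHomO_iso e E hE
  let i1 : DCoh.HD ((DCoh.RSheafHom E).obj (DCoh.inD X (Coh.structureModule X))) n ≅
      (Scheme.Modules.pushforward e).obj (DCoh.HD (a.obj OX).obj n) :=
    (DerivedCategory.homologyFunctor X.Modules n).mapIso
        ((eP.app ((Dual3.bddToPlus X).obj Kb)).symm ≪≫ (Dual3.pushD e).mapIso (eR.app Kb).symm) ≪≫
      RelPCLib.pushHDIso e (a.obj OX).obj n
  let i2 : DCoh.HD (a.obj OX).obj n ≅
      DCoh.HD (DCoh.inD (Spec (CommRingCat.of k)) (Coh.structureModule _)) (n - g) :=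
    (((DerivedCategory.homologyFunctor (Spec (CommRingCat.of k)).Modules 0).shiftIso (g : ℤ) (n - g) n
        (by omega)).app (a.obj OX).obj).symm ≪≫
      (DerivedCategory.homologyFunctor _ (n - g)).mapIso iA
  exact ⟨i1 ≪≫ (Scheme.Modules.pushforward e).mapIso i2⟩

end Groth.Agent.AVExtLib
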