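import Groth.Agent.AVExtLib.StalkGen
import Groth.Agent.NormalSch.Curve

/-!
# Maps defined on an open subscheme and their difference map
-/

set_option autoImplicit false
set_option backward.isDefEq.respectTransparency false
set_option backward.isDefEq.respectTransparency.types false
set_option linter.style.haveILetI false
set_option linter.unusedSectionVars false
set_option maxHeartbeats 1000000

universe u

open CategoryTheory CategoryTheory.Limits AlgebraicGeometry TopologicalSpace MonoidalCategory CartesianMonoidalCategory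
open MonObj

noncomputable section

namespace Groth.Agent.AVExtLib

variable {S : Scheme.{u}} {T A : Over S}

/-- An open subscheme over the base. -/
abbrev opn (T : Over S) (W : T.left.Opens) : Over S := Over.mk (W.ι ≫ T.hom)

/-- The inclusion of an open subscheme. -/
def opnι (W : T.left.Opens) : opn T W ⟶ T := Over.homMk W.ι rfl

/-- Inclusions of open subschemes. -/
def opnLE {V W : T.left.Opens} (h : V ≤ W) : opn T V ⟶ opn T W :=
  Over.homMk (T.left.homOfLE h) (by simp)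

theorem opnLE_ι {V W : T.left.Opens} (h : V ≤ W) : opnLE h ≫ opnι W = opnι V :=
  Over.OverMorphism.ext (T.left.homOfLE_ι h)

theorem opnLE_comp {V W O : T.left.Opens} (h : V ≤ W) (h' : W ≤ O) : opnLE h ≫ opnLE h' = opnLE (h.trans h') :=
  Over.OverMorphism.ext (T.left.homOfLE_homOfLE h h')

/-- The map extends near the point. -/
def Defined {U : T.left.Opens} (g : opn T U ⟶ A) (x : T.left) : Prop :=
  ∃ (W : T.left.Opens) (h : opn T W ⟶ A), x ∈ W ∧
    opnLE (inf_le_right : U ⊓ W ≤ W) ≫ h = opnLE (inf_le_left : U ⊓ W ≤ U) ≫ g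

theorem defined_of_mem {U : T.left.Opens} (g : opn T U ⟶ A) {x : T.left} (hx : x ∈ U) : Defined g x :=
  ⟨U, g, hx, rfl⟩

theorem nonempty_inter_opens [IrreducibleSpace T.left] {V W : T.left.Opens} (hV : (V : Set T.left).Nonempty)
    (hW : (W : Set T.left).Nonempty) : ((V ⊓ W : T.left.Opens) : Set T.left).Nonempty :=
  nonempty_preirreducible_inter V.2 W.2 hV hW

theorem ext_on_open [IsIntegral T.left] [IsSeparated A.hom] {V W : T.left.Opens} (hVW : V ≤ W)
    (hV : (V : Set T.left).Nonempty) (h h' : opn T W ⟶ A) (e : opnLE hVW ≫ h = opnLE hVW ≫ h') : h = h' := by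
  haveI : IsDominant (T.left.homOfLE hVW) := ⟨by
    refine (dense_iff_inter_open (X := W)).2 fun O hO hOne => ?_
    obtain ⟨z, hz⟩ := hOne
    have hO' : IsOpen (W.ι '' O) := W.ι.isOpenEmbedding.isOpenMap O hO
    obtain ⟨y, ⟨w, hwO, rfl⟩, hyV⟩ := nonempty_preirreducible_inter hO' V.2 ⟨_, ⟨z, hz, rfl⟩⟩ hV
    refine ⟨w, hwO, ⟨⟨W.ι w, hyV⟩, ?_⟩⟩
    exact W.ι.isOpenEmbedding.injective (by
      rw [← Scheme.Hom.comp_apply, T.left.homOfLE_ι]
      rfl)⟩
  haveI : IsReduced (opn T W).left := inferInstanceAs (IsReduced (W : Scheme.{u}))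
  exact Over.OverMorphism.ext
    (ext_of_isDominant_of_isSeparated A.hom ((Over.w h).trans (Over.w h').symm) (T.left.homOfLE hVW)
      (congrArg CommaMorphism.left e))

theorem exists_of_forall_defined [IsIntegral T.left] [IsSeparated A.hom] {U : T.left.Opens}
    (hU : (U : Set T.left).Nonempty) (g : opn T U ⟶ A) (hg : ∀ x, Defined g x) :
    ∃ g' : T ⟶ A, opnι U ≫ g' = g := by
  choose W h hxW hh using hg
  let 𝒰 := T.left.openCoverOfIsOpenCover W (eq_top_iff.2 fun t _ => Opens.mem_iSup.2 ⟨t, hxW t⟩)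
  have hc : ∀ i j, opnLE (inf_le_left : W i ⊓ W j ≤ W i) ≫ h i = opnLE (inf_le_right : W i ⊓ W j ≤ W j) ≫ h j := by
    intro i j
    by_cases hne : ((W i ⊓ W j : T.left.Opens) : Set T.left).Nonempty
    · refine ext_on_open (inf_le_right : U ⊓ (W i ⊓ W j) ≤ _) (nonempty_inter_opens hU hne) _ _ ?_
      rw [← Category.assoc, ← Category.assoc, opnLE_comp, opnLE_comp]
      calc _ = opnLE (le_inf inf_le_left (inf_le_right.trans inf_le_left) : U ⊓ (W i ⊓ W j) ≤ U ⊓ W i) ≫
              opnLE (inf_le_right : U ⊓ W i ≤ W i) ≫ h i := by rw [← Category.assoc, opnLE_comp]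
        _ = opnLE (le_inf inf_le_left (inf_le_right.trans inf_le_right) : U ⊓ (W i ⊓ W j) ≤ U ⊓ W j) ≫
              opnLE (inf_le_right : U ⊓ W j ≤ W j) ≫ h j := by
            rw [hh, hh, ← Category.assoc, ← Category.assoc, opnLE_comp, opnLE_comp]
        _ = _ := by rw [← Category.assoc, opnLE_comp]
    · haveI : IsEmpty ↥(W i ⊓ W j : T.left.Opens) := ⟨fun z => hne ⟨z.1, z.2⟩⟩
      haveI : IsEmpty ↥(opn T (W i ⊓ W j)).left := ‹IsEmpty ↥(W i ⊓ W j : T.left.Opens)›
      exact Over.OverMorphism.ext (isInitialOfIsEmpty.hom_ext _ _)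
  have hf : ∀ i j, pullback.fst (𝒰.f i) (𝒰.f j) ≫ (h i).left = pullback.snd (𝒰.f i) (𝒰.f j) ≫ (h j).left := by
    intro i j
    let l : pullback (𝒰.f i) (𝒰.f j) ⟶ ((W i ⊓ W j : T.left.Opens) : Scheme.{u}) :=
      IsOpenImmersion.lift (W i ⊓ W j : T.left.Opens).ι (pullback.fst (W i).ι (W j).ι ≫ (W i).ι) (by
        rintro _ ⟨z, rfl⟩
        rw [Scheme.Opens.range_ι]
        refine ⟨(pullback.fst (W i).ι (W j).ι z).2, ?_⟩
        rw [pullback.condition, Scheme.Hom.comp_apply]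
        exact (pullback.snd (W i).ι (W j).ι z).2)
    have h1 : l ≫ T.left.homOfLE inf_le_left = pullback.fst (𝒰.f i) (𝒰.f j) := by
      rw [← cancel_mono (W i).ι, Category.assoc, T.left.homOfLE_ι]
      exact IsOpenImmersion.lift_fac _ _ _
    have h2 : l ≫ T.left.homOfLE inf_le_right = pullback.snd (𝒰.f i) (𝒰.f j) := by
      rw [← cancel_mono (W j).ι, Category.assoc, T.left.homOfLE_ι]
      exact (IsOpenImmersion.lift_fac _ _ _).trans pullback.condition
    rw [← h1, ← h2, Category.assoc, Category.assoc]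
    exact congrArg (l ≫ ·) (congrArg CommaMorphism.left (hc i j))
  let g₀ := 𝒰.glueMorphisms (fun i => (h i).left) hf
  let g' : T ⟶ A := Over.homMk g₀ (by
    refine 𝒰.hom_ext _ _ fun i => ?_
    rw [← Category.assoc, 𝒰.ι_glueMorphisms]
    exact Over.w (h i))
  refine ⟨g', ?_⟩
  obtain ⟨x, hx⟩ := hU
  refine ext_on_open (inf_le_left : U ⊓ W x ≤ U) ⟨x, hx, hxW x⟩ _ _ ?_
  rw [← hh, ← Category.assoc, opnLE_ι]
  apply Over.OverMorphism.ext
  show (U ⊓ W x : T.left.Opens).ι ≫ g₀ = T.left.homOfLE (inf_le_right : U ⊓ W x ≤ W x) ≫ (h x).left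
  rw [← T.left.homOfLE_ι (inf_le_right : U ⊓ W x ≤ W x), Category.assoc]
  exact congrArg (T.left.homOfLE (inf_le_right : U ⊓ W x ≤ W x) ≫ ·) (𝒰.ι_glueMorphisms _ hf x)

theorem defined_of_dvr [IsNoetherian T.left] [IsIntegral T.left] [IsProper A.hom] {U : T.left.Opens}
    (hU : (U : Set T.left).Nonempty) (g : opn T U ⟶ A) (x : T.left)
    [IsDiscreteValuationRing (T.left.presheaf.stalk x)] : Defined g x := by
  obtain ⟨V, hxV, gV, hgV, hres⟩ := NormalSch.exists_extension_at T.hom A.hom U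
    (IsOpen.dense U.2 hU) g.left (Over.w g) x
  exact ⟨V, Over.homMk gV hgV, hxV, Over.OverMorphism.ext hres⟩

section Diff

/-- The square of an open. -/
def sq (U : T.left.Opens) : (T ⊗ T).left.Opens := (fst T T).left ⁻¹ᵁ U ⊓ (snd T T).left ⁻¹ᵁ U

/-- The first projection of the square. -/
def pr₁ (U : T.left.Opens) : opn (T ⊗ T) (sq U) ⟶ opn T U :=
  Over.homMk ((fst T T).left.resLE U (sq U) inf_le_left) (by
    show _ ≫ U.ι ≫ T.hom = _
    rw [← Category.assoc, Scheme.Hom.resLE_comp_ι, Category.assoc]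
    exact congrArg ((sq U).ι ≫ ·) (Over.w (fst T T)))

/-- The second projection of the square. -/
def pr₂ (U : T.left.Opens) : opn (T ⊗ T) (sq U) ⟶ opn T U :=
  Over.homMk ((snd T T).left.resLE U (sq U) inf_le_right) (by
    show _ ≫ U.ι ≫ T.hom = _
    rw [← Category.assoc, Scheme.Hom.resLE_comp_ι, Category.assoc]
    exact congrArg ((sq U).ι ≫ ·) (Over.w (snd T T)))

theorem pr₁_ι (U : T.left.Opens) : pr₁ U ≫ opnι U = opnι (sq U) ≫ fst T T :=
  Over.OverMorphism.ext (Scheme.Hom.resLE_comp_ι _ _)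

theorem pr₂_ι (U : T.left.Opens) : pr₂ U ≫ opnι U = opnι (sq U) ≫ snd T T :=
  Over.OverMorphism.ext (Scheme.Hom.resLE_comp_ι _ _)

instance mono_opnι (W : T.left.Opens) : Mono (opnι W) :=
  haveI : Mono (opnι W).left := inferInstanceAs (Mono W.ι)
  Over.mono_of_mono_left _

theorem sq_mono {V W : T.left.Opens} (h : V ≤ W) : sq V ≤ sq W :=
  inf_le_inf (Scheme.Hom.preimage_mono _ h) (Scheme.Hom.preimage_mono _ h)

theorem opnLE_pr₁ {V W : T.left.Opens} (h : V ≤ W) : opnLE (sq_mono h) ≫ pr₁ W = pr₁ V ≫ opnLE h := by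
  rw [← cancel_mono (opnι W)]
  simp only [Category.assoc, pr₁_ι, opnLE_ι]
  rw [← Category.assoc, opnLE_ι]

theorem opnLE_pr₂ {V W : T.left.Opens} (h : V ≤ W) : opnLE (sq_mono h) ≫ pr₂ W = pr₂ V ≫ opnLE h := by
  rw [← cancel_mono (opnι W)]
  simp only [Category.assoc, pr₂_ι, opnLE_ι]
  rw [← Category.assoc, opnLE_ι]

variable [GrpObj A]

/-- The difference of the values at two points. -/
def diff {U : T.left.Opens} (g : opn T U ⟶ A) : opn (T ⊗ T) (sq U) ⟶ A := (pr₁ U ≫ g) * (pr₂ U ≫ g)⁻¹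

theorem opnLE_diff {V W : T.left.Opens} (h : V ≤ W) (g : opn T W ⟶ A) :
    opnLE (sq_mono h) ≫ diff g = diff (opnLE h ≫ g) := by
  rw [diff, diff, MonObj.comp_mul, GrpObj.comp_inv, ← Category.assoc, ← Category.assoc, opnLE_pr₁, opnLE_pr₂,
    Category.assoc, Category.assoc]

/-- The diagonal. -/
abbrev δ (T : Over S) : T ⟶ T ⊗ T := lift (𝟙 T) (𝟙 T)

theorem δ_mem_sq {U : T.left.Opens} {x : T.left} (hx : x ∈ U) : (δ T).left x ∈ sq U := by
  have h1 : (δ T).left ≫ (fst T T).left = 𝟙 _ := congrArg CommaMorphism.left (lift_fst (𝟙 T) (𝟙 T))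
  have h2 : (δ T).left ≫ (snd T T).left = 𝟙 _ := congrArg CommaMorphism.left (lift_snd (𝟙 T) (𝟙 T))
  refine ⟨?_, ?_⟩
  · show (fst T T).left ((δ T).left x) ∈ U
    rw [← Scheme.Hom.comp_apply, h1]
    exact hx
  · show (snd T T).left ((δ T).left x) ∈ U
    rw [← Scheme.Hom.comp_apply, h2]
    exact hx

/-- The diagonal of an open. -/
def diag (U : T.left.Opens) : opn T U ⟶ opn (T ⊗ T) (sq U) :=
  Over.homMk ((δ T).left.resLE (sq U) U (fun _ hx => δ_mem_sq hx)) (by
    show _ ≫ (sq U).ι ≫ (T ⊗ T).hom = _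
    rw [← Category.assoc, Scheme.Hom.resLE_comp_ι, Category.assoc]
    exact congrArg (U.ι ≫ ·) (Over.w (δ T)))

theorem diag_diff {U : T.left.Opens} (g : opn T U ⟶ A) : diag U ≫ diff g = toUnit _ ≫ η[A] := by
  have h : diag U ≫ opnι (sq U) = opnι U ≫ δ T := Over.OverMorphism.ext (Scheme.Hom.resLE_comp_ι _ _)
  have h1 : diag U ≫ pr₁ U = 𝟙 _ := by
    rw [← cancel_mono (opnι U), Category.assoc, pr₁_ι, ← Category.assoc, h, Category.assoc, lift_fst,
      Category.comp_id, Category.id_comp]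
  have h2 : diag U ≫ pr₂ U = 𝟙 _ := by
    rw [← cancel_mono (opnι U), Category.assoc, pr₂_ι, ← Category.assoc, h, Category.assoc, lift_snd,
      Category.comp_id, Category.id_comp]
  rw [diff, MonObj.comp_mul, GrpObj.comp_inv, ← Category.assoc, ← Category.assoc, h1, h2, Category.id_comp,
    mul_inv_cancel]
  rfl

theorem diff_apply_diag {U : T.left.Opens} (g : opn T U ⟶ A) {x : T.left} (hx : x ∈ U) [Subsingleton ↥S]
    (p : ↥(𝟙_ (Over S)).left) :
    (diff g).left ⟨(δ T).left x, δ_mem_sq hx⟩ = (η[A]).left p := by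
  have h : (diag U).left ≫ (diff g).left = (toUnit (opn T U)).left ≫ (η[A]).left :=
    congrArg CommaMorphism.left (diag_diff g)
  have e : (diag U).left ⟨x, hx⟩ = ⟨(δ T).left x, δ_mem_sq hx⟩ := by
    refine (sq U).ι.isOpenEmbedding.injective ?_
    refine (Scheme.Hom.comp_apply (diag U).left (sq U).ι _).symm.trans ?_
    exact congrArg (fun m : (U : Scheme.{u}) ⟶ (T ⊗ T).left => m ⟨x, hx⟩) (Scheme.Hom.resLE_comp_ι (δ T).left (U := sq U) (V := U)
      (fun _ hx => δ_mem_sq hx))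
  rw [← e, ← Scheme.Hom.comp_apply, h, Scheme.Hom.comp_apply]
  exact congrArg _ (Subsingleton.elim (α := ↥S) _ _)

end Diff

end Groth.Agent.AVExtLib
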