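import Mathlib
import Groth.Agent.RegLocal.UFD

/-!
# Local rings at generalisations and the polar argument
-/

set_option autoImplicit false
set_option backward.isDefEq.respectTransparency false
set_option backward.isDefEq.respectTransparency.types false
set_option linter.style.haveILetI false
set_option linter.unusedSectionVars false
set_option maxHeartbeats 1000000

universe u

open CategoryTheory AlgebraicGeometry TopologicalSpace

noncomputable section

namespace Groth.Agent.AVExtLib

/-- An element of the fraction field of a factorial local ring which is regular at all small generalisations on a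
regular closed subscheme is regular. -/
theorem mem_range_of_small_primes {R R' K : Type u} [CommRing R] [IsDomain R] [IsLocalRing R]
    [UniqueFactorizationMonoid R] [CommRing R'] [IsDomain R'] [UniqueFactorizationMonoid R'] [Field K]
    [Algebra R K] [IsFractionRing R K] (φ : R →+* R') (hφ : Function.Surjective φ) (v : K)
    (h : ∀ q : PrimeSpectrum R', (q.asIdeal = ⊥ ∨ ∃ π : R', Prime π ∧ q.asIdeal = Ideal.span {π}) →
      ∃ c s, φ s ∉ q.asIdeal ∧ v * algebraMap R K s = algebraMap R K c) :
    ∃ r, algebraMap R K r = v := by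
  obtain ⟨a, b, hab, hv⟩ := IsFractionRing.exists_reduced_fraction (A := R) v
  by_contra hne
  have hb : ¬ IsUnit (b : R) := fun hb => by
    obtain ⟨w, hw⟩ := hb
    refine hne ⟨a * ↑w⁻¹, ?_⟩
    rw [← hv, IsFractionRing.mk'_eq_div, eq_div_iff (IsFractionRing.to_map_ne_zero_of_mem_nonZeroDivisors b.2),
      ← map_mul, ← hw, mul_assoc, Units.inv_mul, mul_one]
  obtain ⟨p, hp, hpb⟩ := WfDvdMonoid.exists_irreducible_factor hb (nonZeroDivisors.ne_zero b.2)
  have hpp : Prime p := UniqueFactorizationMonoid.irreducible_iff_prime.1 hp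
  have hmain : ∀ q : PrimeSpectrum R', (q.asIdeal = ⊥ ∨ ∃ π : R', Prime π ∧ q.asIdeal = Ideal.span {π}) →
      φ p ∈ q.asIdeal → False := fun q hq hpq => by
    obtain ⟨c, s, hs, hcs⟩ := h q hq
    refine hs ?_
    have e : a * s = (b : R) * c := by
      refine IsFractionRing.injective R K ?_
      rw [map_mul, map_mul, ← hcs, ← mul_assoc, ← hv, IsLocalization.mk'_spec']
    have hd : p ∣ a * s := e ▸ dvd_mul_of_dvd_left hpb c
    rcases hpp.dvd_or_dvd hd with hpa | hps
    · exact absurd (hab hpa hpb) hp.not_isUnit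
    · exact Ideal.mem_of_dvd _ (map_dvd φ hps) hpq
  by_cases hp0 : φ p = 0
  · exact hmain ⟨⊥, Ideal.isPrime_bot⟩ (Or.inl rfl) (Ideal.mem_bot.2 hp0)
  · have hnu : ¬ IsUnit (φ p) := fun hu => by
      obtain ⟨r, hr⟩ := hφ ↑hu.unit⁻¹
      have h1 : φ (p * r) = 1 := by rw [map_mul, hr, IsUnit.mul_val_inv]
      have hker : RingHom.ker φ ≤ IsLocalRing.maximalIdeal R :=
        IsLocalRing.le_maximalIdeal (RingHom.ker_ne_top φ)
      have h2 : p * r - 1 ∈ IsLocalRing.maximalIdeal R := hker (by rw [RingHom.mem_ker, map_sub, h1, map_one, sub_self])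
      have h3 : p * r ∈ IsLocalRing.maximalIdeal R :=
        Ideal.mul_mem_right _ _ ((IsLocalRing.mem_maximalIdeal p).2 hp.not_isUnit)
      exact (IsLocalRing.maximalIdeal.isMaximal R).ne_top ((Ideal.eq_top_iff_one _).2 (by
        simpa using Ideal.sub_mem _ h3 h2))
    obtain ⟨π, hπ, hπp⟩ := WfDvdMonoid.exists_irreducible_factor hnu hp0
    have hπ' : Prime π := UniqueFactorizationMonoid.irreducible_iff_prime.1 hπ
    exact hmain ⟨Ideal.span {π}, (Ideal.span_singleton_prime hπ'.ne_zero).2 hπ'⟩ (Or.inr ⟨π, hπ', rfl⟩)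
      (Ideal.mem_span_singleton.2 hπp)

variable {X : Scheme.{u}} (x : X) (q : PrimeSpectrum (X.presheaf.stalk x))

theorem specializes_fromSpecStalk : X.fromSpecStalk x q ⤳ x := by
  have h := (IsLocalRing.specializes_closedPoint q).map (X.fromSpecStalk x).continuous
  rwa [Scheme.fromSpecStalk_closedPoint] at h

/-- The local ring at a generalisation is the localization of the local ring. -/
theorem isLocalization_fromSpecStalk {y : X} (hy : y = X.fromSpecStalk x q) (h : y ⤳ x) :
    letI := (X.presheaf.stalkSpecializes h).hom.toAlgebra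
    IsLocalization.AtPrime (X.presheaf.stalk y) q.asIdeal := by
  obtain ⟨_, ⟨V : X.Opens, hV, rfl⟩, hxV, -⟩ :=
    X.isBasis_affineOpens.exists_subset_of_mem_open (Set.mem_univ x) isOpen_univ
  have hyV : y ∈ V := h.mem_open V.2 hxV
  letI := (X.presheaf.stalkSpecializes h).hom.toAlgebra
  letI := X.presheaf.algebra_section_stalk ⟨x, hxV⟩
  letI := X.presheaf.algebra_section_stalk ⟨y, hyV⟩
  haveI : IsScalarTower Γ(X, V) (X.presheaf.stalk x) (X.presheaf.stalk y) := IsScalarTower.of_algebraMap_eq fun a =>
    (TopCat.Presheaf.germ_stalkSpecializes_apply X.presheaf hxV h a).symm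
  haveI hlx : IsLocalization.AtPrime (X.presheaf.stalk x) (hV.primeIdealOf ⟨x, hxV⟩).asIdeal :=
    hV.isLocalization_stalk ⟨x, hxV⟩
  let P : PrimeSpectrum Γ(X, V) := PrimeSpectrum.comap (algebraMap Γ(X, V) (X.presheaf.stalk x)) q
  have hP : hV.fromSpec P = y := by
    rw [hy, ← hV.fromSpecStalk_eq_fromSpecStalk hxV, IsAffineOpen.fromSpecStalk, Scheme.Hom.comp_apply]
    rfl
  haveI hly : IsLocalization.AtPrime (X.presheaf.stalk y) P.asIdeal := by
    have hl := hV.isLocalization_stalk' P (hP ▸ hyV)
    subst hP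
    exact hl
  let M := (hV.primeIdealOf ⟨x, hxV⟩).asIdeal.primeCompl
  have hMP : M ≤ P.asIdeal.primeCompl := fun a ha ha' =>
    q.2.ne_top (q.asIdeal.eq_top_of_isUnit_mem ha' (IsLocalization.map_units (X.presheaf.stalk x) ⟨a, ha⟩))
  haveI hN : IsLocalization (P.asIdeal.primeCompl.map (algebraMap Γ(X, V) (X.presheaf.stalk x))) (X.presheaf.stalk y) :=
    IsLocalization.isLocalization_of_submonoid_le (X.presheaf.stalk x) (X.presheaf.stalk y) M P.asIdeal.primeCompl hMP
  refine IsLocalization.of_le (P.asIdeal.primeCompl.map (algebraMap Γ(X, V) (X.presheaf.stalk x))) q.asIdeal.primeCompl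
    ?_ fun r hr => ?_
  · rintro _ ⟨a, ha, rfl⟩
    exact ha
  · obtain ⟨⟨a, t⟩, hat⟩ := IsLocalization.surj M r
    have ha : a ∈ P.asIdeal.primeCompl := by
      show algebraMap Γ(X, V) (X.presheaf.stalk x) a ∉ q.asIdeal
      rw [← hat]
      intro hm
      rcases q.2.mem_or_mem hm with h' | h'
      · exact hr h'
      · exact q.2.ne_top (q.asIdeal.eq_top_of_isUnit_mem h' (IsLocalization.map_units (X.presheaf.stalk x) t))
    have hu := IsLocalization.map_units (X.presheaf.stalk y) (⟨a, ha⟩ : P.asIdeal.primeCompl)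
    rw [IsScalarTower.algebraMap_apply Γ(X, V) (X.presheaf.stalk x) (X.presheaf.stalk y), ← hat, map_mul] at hu
    exact isUnit_of_mul_isUnit_left hu

/-- An element of the local ring at a generalisation is a fraction of the local ring in the function field. -/
theorem exists_frac_fromSpecStalk [IsIntegral X] {y : X} (hy : y = X.fromSpecStalk x q) (h : y ⤳ x)
    (v : X.presheaf.stalk y) : ∃ c s, s ∉ q.asIdeal ∧
      algebraMap (X.presheaf.stalk y) X.functionField v * algebraMap (X.presheaf.stalk x) X.functionField s =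
        algebraMap (X.presheaf.stalk x) X.functionField c := by
  letI := (X.presheaf.stalkSpecializes h).hom.toAlgebra
  haveI : IsLocalization.AtPrime (X.presheaf.stalk y) q.asIdeal := isLocalization_fromSpecStalk x q hy h
  obtain ⟨⟨c, s⟩, hcs⟩ := IsLocalization.surj q.asIdeal.primeCompl v
  have hgen : ∀ a, algebraMap (X.presheaf.stalk y) X.functionField (X.presheaf.stalkSpecializes h a) =
      algebraMap (X.presheaf.stalk x) X.functionField a := fun a => by
    show X.presheaf.stalkSpecializes _ (X.presheaf.stalkSpecializes h a) = _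
    rw [← CommRingCat.comp_apply, TopCat.Presheaf.stalkSpecializes_comp]
    rfl
  refine ⟨c, s, s.2, ?_⟩
  rw [← hgen, ← hgen, ← map_mul]
  exact congrArg _ hcs

end Groth.Agent.AVExtLib
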