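import Groth.Agent.S1937
import Groth.Agent.AbDualLib.Dual
import Groth.Agent.AbDualLib.ExactSeq
import Groth.Agent.TwistShriek.SurfSmooth
import Groth.Agent.KVbLib.PullExt
import Groth.Agent.DefExtLib.OmegaExt

/-!
# The top forms of an abelian variety are trivial
-/

set_option autoImplicit false
set_option backward.isDefEq.respectTransparency false
set_option linter.style.haveILetI false
set_option maxHeartbeats 1000000

universe u

open CategoryTheory CategoryTheory.Limits MonoidalCategory CartesianMonoidalCategory MonObj GrpObj AlgebraicGeometry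

namespace Groth.Agent.AVExtLib

variable {k : Type u} [Field k] (A : Over (Spec (CommRingCat.of k))) [GrpObj A] [IsProper A.hom] [Smooth A.hom]
  [GeometricallyConnected A.hom]

/-- The canonical sheaf of an abelian variety is trivial. -/
theorem exists_topForms_trivial (g : ℕ) (hg : topologicalKrullDim ↥A.left = g) :
    ∃ L : A.left.Modules, ExtPow.IsExtPow g (Omega.sheaf A.hom) L ∧ Nonempty (L ≅ Coh.structureModule A.left) := by
  haveI : GeometricallyIntegral A.hom := AbDualLib.geometricallyIntegral_of_smooth A
  haveI : IsIntegral A.left := GeometricallyIntegral.isIntegral_of_subsingleton A.hom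
  haveI : SmoothOfRelativeDimension g A.hom := TwistShriek.smoothOfRelativeDimension_of_smooth A.hom hg
  haveI : Coh.IsQCoh (Omega.conormal η[A].left) := by
    haveI := OmegaAffLib.isQCoh_idealMod η[A].left.ker
    exact PullbackMod.isQCoh_pullback η[A].left (ClSub.idealMod η[A].left.ker)
  obtain ⟨D, -, hD⟩ := ExtPowLib.exists_isExtPow (Omega.conormal η[A].left) g
  obtain ⟨⟨t⟩, -⟩ := S1937.result _ A
  have hW : ExtPow.IsExtPow g (Omega.sheaf A.hom) ((Scheme.Modules.pullback A.hom).obj D) :=
    KVb.isExtPow_iso t.symm (Iso.refl _) (KVb.isExtPow_pullback A.hom hD)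
  have hWinv := SeesawVB.isInvertible_of_isExtPow hW (SeesawVB.exists_frame_omega A.hom g)
  have hDinv : PicF.IsInvertible D := by
    have e := (Scheme.Modules.pullbackComp η[A].left A.hom ≪≫
      Scheme.Modules.pullbackCongr (Over.w η[A]) ≪≫ Scheme.Modules.pullbackId _).app D
    exact ParaFLib.isInvertible_of_iso e (AmpleLib.isInvertible_pullback η[A].left hWinv)
  refine ⟨_, hW, ?_⟩
  haveI : Subsingleton ↥(𝟙_ (Over (Spec (CommRingCat.of k)))).left :=
    inferInstanceAs (Subsingleton (PrimeSpectrum k))
  haveI : Nonempty ↥(𝟙_ (Over (Spec (CommRingCat.of k)))).left := inferInstanceAs (Nonempty (PrimeSpectrum k))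
  have h1 := AbDualLib.eq_one_of_subsingleton (PicLib.cls hDinv)
  rw [AbDualLib.eq_one_iff_triv] at h1
  exact CubeLib.triv_iff.1 (h1.pullback A.hom hDinv)

end Groth.Agent.AVExtLib
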